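import Groth.Agent.RefHullLib.BigOpen
import Groth.Agent.QGorBCLib.Depth
import Groth.Agent.DepthTensModLib.Basic
import Groth.Agent.GorDualExtLib.Fibre
import Groth.Agent.BlowRegLib.GermInjTf
import Groth.Agent.CDivCoreLib.Basic
import Groth.Agent.AssPointLib.S1
import Groth.Agent.ConsLib.ModLoci
import Groth.Agent.KleimanLib.GenSmooth
import Groth.Agent.CurvLib.Finite0
import Groth.Agent.FinPicLib.Topo
import Groth.Agent.KFlatLib.StalkPull

/-!
# Depth two on the product of a curve with a smooth curve
-/

set_option autoImplicit false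
set_option linter.style.haveILetI false
set_option maxHeartbeats 1600000
set_option maxRecDepth 8000
set_option backward.isDefEq.respectTransparency false

universe u

open CategoryTheory CategoryTheory.Limits AlgebraicGeometry TopologicalSpace Opposite IsLocalRing
open scoped TensorProduct

noncomputable section

namespace ProdDepthTwoLib

variable {X : Scheme.{u}}

theorem isGen_of_isField [AlgebraicGeometry.IsReduced X] {x : X} (h : IsField (X.presheaf.stalk x)) :
    FinPicLib.IsGen x := fun y hy => by
  haveI : Subsingleton (PrimeSpectrum (X.presheaf.stalk x)) :=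
    PrimeSpectrum.subsingleton_iff_isField_of_isReduced.2 h
  have h1 : y ∈ Set.range (X.fromSpecStalk x) := by rw [Scheme.range_fromSpecStalk]; exact hy
  have h2 : x ∈ Set.range (X.fromSpecStalk x) := by rw [Scheme.range_fromSpecStalk]; exact specializes_refl x
  obtain ⟨a, rfl⟩ := h1
  obtain ⟨b, hb⟩ := h2
  exact (congrArg (X.fromSpecStalk x) (Subsingleton.elim (α := PrimeSpectrum (X.presheaf.stalk x)) a b)).trans hb

theorem isOpen_singleton_of_isGen [NoetherianSpace X] {x : X} (hx : FinPicLib.IsGen x) (hc : IsClosed ({x} : Set X)) :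
    IsOpen ({x} : Set X) := by
  have h : ({x} : Set X)ᶜ = ⋃ η ∈ {η : X | FinPicLib.IsGen η ∧ η ≠ x}, closure {η} := by
    ext y
    simp only [Set.mem_compl_iff, Set.mem_singleton_iff, Set.mem_iUnion₂]
    refine ⟨fun hy => ?_, ?_⟩
    · obtain ⟨η, hη, hηy⟩ := FinPicLib.exists_isGen_specializes (y : X)
      refine ⟨η, ⟨hη, fun he => hy ?_⟩, specializes_iff_mem_closure.1 hηy⟩
      subst he
      exact (hηy.mem_closed hc rfl)
    · rintro ⟨η, ⟨-, hne⟩, hy⟩ rfl
      exact hne (hx η (specializes_iff_mem_closure.2 hy))
  rw [← isClosed_compl_iff, h]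
  exact ((FinPicLib.finite_isGen (α := X)).subset fun η h => h.1).isClosed_biUnion fun _ _ => isClosed_closure

variable (k : Type u) [Field k] [IsAlgClosed k] [X.Over (Spec (CommRingCat.of k))]
  [IsProper (X ↘ Spec (CommRingCat.of k))] [AlgebraicGeometry.IsReduced X]

/-- `p_X^* F` has depth two at the closed points of `X × C`. -/
theorem two_le_depth_pullback (hdim : topologicalKrullDim X = 1)
    (hpure : ∀ x : X, IsClosed ({x} : Set X) → ¬ IsOpen ({x} : Set X))
    {C : Scheme.{u}} (g : C ⟶ Spec (CommRingCat.of k)) [Smooth g] [IrreducibleSpace C]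
    (hdimC : topologicalKrullDim C = 1) (F : X.Modules) (hF : Coh.IsCoh F) (htF : TorSh.IsTorsionFree F)
    (z : (pullback (X ↘ Spec (CommRingCat.of k)) g : Scheme.{u})) (hz : IsClosed ({z} : Set _)) :
    (2 : ℕ∞) ≤ LocCoh.depth ((pullback (X ↘ Spec (CommRingCat.of k)) g).presheaf.stalk z)
      (((Scheme.Modules.pullback (pullback.fst (X ↘ Spec (CommRingCat.of k)) g)).obj F).presheaf.stalk z) := by
  haveI := CurvLib.isNoetherian k (X := X)
  let f := X ↘ Spec (CommRingCat.of k)
  let p := pullback.fst f g
  haveI : LocallyOfFiniteType p := MorphismProperty.pullback_fst (P := @LocallyOfFiniteType) _ _ inferInstance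
  haveI : Flat p := MorphismProperty.pullback_fst (P := @Flat) _ _ inferInstance
  haveI : IsLocallyNoetherian (pullback f g) := LocallyOfFiniteType.isLocallyNoetherian p
  haveI : LocallyOfFiniteType (p ≫ f) := inferInstance
  -- the rational point
  let σ := pointOfClosedPoint (p ≫ f) z hz
  let s := σ ≫ p
  have hs : s ≫ f = 𝟙 _ := (Category.assoc _ _ _).trans (pointOfClosedPoint_comp _ _ _)
  haveI : IsClosedImmersion s := by
    haveI : IsClosedImmersion (s ≫ f) := by rw [hs]; infer_instance
    exact IsClosedImmersion.of_comp s f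
  let pt := closedPoint k
  have hsz : s pt = p z := by
    change p (σ pt) = p z
    rw [pointOfClosedPoint_apply]
  let i : C ⟶ pullback f g := pullback.lift (g ≫ s) (𝟙 C) (by
    rw [Category.assoc, hs, Category.comp_id, Category.id_comp])
  have hi₁ : i ≫ p = g ≫ s := pullback.lift_fst _ _ _
  have hi₂ : i ≫ pullback.snd f g = 𝟙 C := pullback.lift_snd _ _ _
  have sq : IsPullback i g p s := by
    refine IsPullback.of_right (h₁₂ := pullback.snd f g) (v₁₃ := g) (h₂₂ := f) ?_ hi₁ (IsPullback.of_hasPullback f g).flip
    rw [hi₂, hs]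
    exact IsPullback.of_horiz_isIso ⟨by rw [Category.id_comp, Category.comp_id]⟩
  -- the fibre is the curve `C`
  let A := X.presheaf.stalk (p z)
  let B := (pullback f g).presheaf.stalk z
  let M := F.presheaf.stalk (p z)
  letI : Algebra A B := (p.stalkMap z).hom.toAlgebra
  haveI : IsLocalHom (algebraMap A B) := inferInstanceAs (IsLocalHom (p.stalkMap z).hom)
  haveI : Module.Flat A B := Flat.stalkMap p z
  haveI : Module.Finite A M := ZClosLib.finite_stalk hF (p z)
  let e : B ⊗[A] M ≃ₗ[B] ((Scheme.Modules.pullback p).obj F).presheaf.stalk z :=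
    ((KFlatLib.stalkPullIso p z).symm.app F).toLinearEquiv
  haveI : Module.Finite B (((Scheme.Modules.pullback p).obj F).presheaf.stalk z) := Module.Finite.equiv e
  rw [← DepthTensModLib.depth_congr B e]
  rcases subsingleton_or_nontrivial M with hM | hM
  · haveI : Subsingleton (B ⊗[A] M) := subsingleton_of_forall_eq 0 fun t => by
      induction t using TensorProduct.induction_on with
      | zero => rfl
      | tmul a m => rw [Subsingleton.elim m 0, TensorProduct.tmul_zero]
      | add t t' ht ht' => rw [ht, ht', add_zero]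
    rw [DepthTensModLib.depth_eq_top B (B ⊗[A] M)]
    exact le_top
  rw [DepthTensModLib.depth_tensor (A := A) (B := B) B M, ← one_add_one_eq_two]
  refine add_le_add ?_ ?_
  · rw [AssPointLib.one_le_depth_iff]
    intro hass
    obtain ⟨hprime, w, hw⟩ := isAssociatedPrime_iff.1 hass
    have hxcl : IsClosed ({p z} : Set X) := by
      have hr : Set.range s = {p z} := Set.ext fun y => ⟨fun ⟨q, hq⟩ => by
          rw [← hq, Subsingleton.elim (α := PrimeSpectrum k) q pt]; exact hsz, fun hy => ⟨pt, hsz.trans hy.symm⟩⟩
      rw [← hr]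
      exact s.isClosedEmbedding.isClosed_range
    have hw0 : w ≠ 0 := fun h0 => hprime.ne_top (by
      rw [hw, Ideal.eq_top_iff_one, Submodule.mem_colon_singleton, Submodule.mem_bot, h0, smul_zero])
    have hasso : DevissLib.Asso F (p z) := ⟨w, hw0, fun a ha => by
      rw [hw, Submodule.mem_colon_singleton, Submodule.mem_bot] at ha
      exact ha⟩
    exact hpure _ hxcl (isOpen_singleton_of_isGen (isGen_of_isField (BlowRegLib.isField_stalk_of_asso htF hasso)) hxcl)
  · let q : p.fiber (p z) := p.asFiber z
    obtain ⟨efib⟩ : Nonempty (p.fiber (p z) ≅ C) := hsz ▸ GorDualExtLib.nonempty_fiber_iso sq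
    obtain ⟨hsurj, hker⟩ := Groth.Agent.S9501.result p (p z) q
    have hqz : p.fiberι (p z) q = z := p.fiberι_asFiber z
    -- the stalk of the fibre
    let S := (p.fiber (p z)).presheaf.stalk q
    let c := efib.hom q
    haveI := KleimanLib.regular_of_smooth g c
    haveI : IsDomain (C.presheaf.stalk c) := CommAlgDim.isDomain_of_isRegularLocalRing _
    let eS : S ≃+* C.presheaf.stalk c := (asIso (efib.hom.stalkMap q)).commRingCatIsoToRingEquiv.symm
    haveI : IsDomain S := eS.toMulEquiv.isDomain _
    haveI : IsNoetherianRing S := isNoetherianRing_of_ringEquiv _ eS.symm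
    have hq : IsClosed ({q} : Set (p.fiber (p z))) := by
      have : ({q} : Set (p.fiber (p z))) = p.fiberι (p z) ⁻¹' {z} := Set.ext fun q' => ⟨fun h => by
        rw [h]; exact hqz, fun h => (p.fiberι (p z)).injective ((show p.fiberι (p z) q' = z from h).trans hqz.symm)⟩
      rw [this]
      exact hz.preimage (p.fiberι (p z)).continuous
    have hc : IsClosed ({c} : Set C) := by
      have := (Scheme.homeoOfIso efib).isClosedMap _ hq
      rwa [Set.image_singleton] at this
    have hnf : ¬ IsField S := fun hf => by
      haveI : AlgebraicGeometry.IsReduced C := by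
        haveI : ∀ c' : C, _root_.IsReduced (C.presheaf.stalk c') := fun c' => by
          haveI := KleimanLib.regular_of_smooth g c'
          haveI : IsDomain (C.presheaf.stalk c') := CommAlgDim.isDomain_of_isRegularLocalRing _
          infer_instance
        exact isReduced_of_isReduced_stalk _
      have hg := isGen_of_isField (X := C) (eS.symm.toMulEquiv.isField hf)
      have h1 : genericPoint C = c := hg _ ((genericPoint_spec C).specializes trivial)
      haveI : Subsingleton C := ⟨fun a b => by
        have ha : ∀ a : C, a = c := fun a => by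
          have : a ∈ closure ({c} : Set C) := by
            rw [← h1, (genericPoint_spec C).def]; trivial
          rwa [hc.closure_eq] at this
        rw [ha a, ha b]⟩
      haveI : Nonempty C := ⟨c⟩
      have : topologicalKrullDim C ≤ 0 := topologicalKrullDim_zero_of_discreteTopology C
      rw [hdimC] at this
      exact absurd this (by norm_num)
    let Bq := (pullback f g).presheaf.stalk (p.fiberι (p z) q)
    have key : ∀ (w : (pullback f g : Scheme.{u})) (hw : p.fiberι (p z) q = w),
        letI : Algebra (X.presheaf.stalk (p w)) ((pullback f g).presheaf.stalk w) := (p.stalkMap w).hom.toAlgebra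
        (1 : ℕ∞) ≤ LocCoh.depth ((pullback f g).presheaf.stalk w)
          (DepthTensModLib.Fib (X.presheaf.stalk (p w)) (B := (pullback f g).presheaf.stalk w)
            ((pullback f g).presheaf.stalk w)) := by
      rintro _ rfl
      letI : Algebra (X.presheaf.stalk (p (p.fiberι (p z) q))) Bq := (p.stalkMap _).hom.toAlgebra
      letI : Algebra Bq S := ((p.fiberι (p z)).stalkMap q).hom.toAlgebra
      haveI : Module.Finite Bq S := Module.Finite.of_surjective (Algebra.linearMap Bq S) hsurj
      let eF : DepthTensModLib.Fib (X.presheaf.stalk (p (p.fiberι (p z) q))) (B := Bq) Bq ≃ₗ[Bq] S :=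
        (Submodule.quotEquivOfEq _ _ (by rw [Ideal.smul_eq_mul, Ideal.mul_top]; exact hker.symm)).trans
          (Ideal.quotientKerAlgEquivOfSurjective (f := Algebra.ofId Bq S) hsurj).toLinearEquiv
      rw [DepthTensModLib.depth_congr Bq eF, SkOpenLib.depth_of_surjective (S := S) hsurj S]
      exact CDivCoreLib.one_le_depth hnf
    exact key z hqz

end ProdDepthTwoLib
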